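import Groth.Agent.Lib.CurveStable
import Groth.Agent.Lib.CurveTensor
import Groth.Agent.Lib.CurveSection
import Groth.Agent.Lib.InvEnd
import Groth.Prelude.Def_TwSh
import Groth.Prelude.Def_LinSer

/-! Subsheaves of free modules without sections are built from negative line bundles. -/

set_option linter.style.haveILetI false
set_option linter.unusedSectionVars false
set_option backward.isDefEq.respectTransparency false
set_option backward.isDefEq.respectTransparency.types false

universe u

open CategoryTheory CategoryTheory.Limits AlgebraicGeometry TopologicalSpace Opposite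

namespace Groth.Agent.CurvFam16.NegFilt

open Groth.Agent Groth.Agent.CurveBundle Groth.Agent.CurveSlope Groth.Agent.CurveStable

variable (k : Type u) [Field k] {X : Scheme.{u}} [X.Over (Spec (CommRingCat.of k))]

/-- A constant, as an endomorphism of the structure sheaf. -/
noncomputable def scal (c : k) : Coh.structureModule X ⟶ Coh.structureModule X :=
  TwSh.scalarEnd (Coh.structureModule X) (Coh.toGlobal (X ↘ Spec (CommRingCat.of k)) c)

/-- A constant combination of functionals. -/
noncomputable def comb {N : X.Modules} {n : ℕ} (f : Fin n → (N ⟶ Coh.structureModule X)) (c : Fin n → k) :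
    N ⟶ Coh.structureModule X :=
  ∑ i, f i ≫ scal k (c i)

/-- Jointly injective functionals. -/
def JMono {N : X.Modules} {n : ℕ} (f : Fin n → (N ⟶ Coh.structureModule X)) : Prop :=
  ∀ (Z : X.Modules) (h : Z ⟶ N), (∀ i, h ≫ f i = 0) → h = 0

theorem stalk_scal (x : X) (c : k) (v : (Coh.structureModule X).presheaf.stalk x) :
    ((DerSch.stalkFunctor X x).map (scal k c)).hom v = Curv2.stalkMap k X x c • v := by
  obtain ⟨W, hx, s, rfl⟩ := TopCat.Presheaf.exists_germ_eq (Coh.structureModule X).presheaf v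
  refine Eq.trans (TopCat.Presheaf.stalkFunctor_map_germ_apply W x hx
    ((Scheme.Modules.toPresheaf X).map (scal k c)) s) ?_
  show (Coh.structureModule X).presheaf.germ W x hx ((scal k c).app W s) = _
  rw [show (scal k c).app W s = TwSh.resTop X W (Coh.toGlobal (X ↘ Spec (CommRingCat.of k)) c) • s from
    TwSh.scalarEnd_app_apply _ _ W s, QCoh.germ_smul' (Coh.structureModule X) (hx := hx)]
  congr 1
  exact X.presheaf.germ_res_apply (homOfLE (le_top : W ≤ ⊤)) x hx _

theorem scal_comp_inv {c : k} (hc : c ≠ 0) : scal (X := X) k c ≫ scal k c⁻¹ = 𝟙 (Coh.structureModule X) := by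
  ext U s
  show (scal (X := X) k c⁻¹).app U ((scal k c).app U s) = s
  simp only [scal, TwSh.scalarEnd_app_apply, smul_smul]
  rw [← map_mul (TwSh.resTop X U)]
  erw [← map_mul (Coh.toGlobal (X ↘ Spec (CommRingCat.of k)))]
  rw [inv_mul_cancel₀ hc, map_one]
  erw [map_one]
  rw [one_smul]

theorem scal_zero : scal (X := X) k 0 = 0 := by
  ext U s
  simp only [scal, TwSh.scalarEnd_app_apply, map_zero, zero_smul]
  rfl

theorem scal_one : scal (X := X) k 1 = 𝟙 (Coh.structureModule X) := by
  ext U s
  simp only [scal, TwSh.scalarEnd_app_apply, map_one, one_smul]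
  rfl

variable [IsAlgClosed k] [IsIntegral X] [IsProper (X ↘ Spec (CommRingCat.of k))]
  [Smooth (X ↘ Spec (CommRingCat.of k))]

include k in
/-- A map to the structure sheaf hitting a unit at every closed point is an epimorphism. -/
theorem epi_of_closed {N : X.Modules} (hN : Coh.IsCoh N) (g : N ⟶ Coh.structureModule X)
    (h : ∀ x : X, IsClosed ({x} : Set X) → Function.Surjective ((DerSch.stalkFunctor X x).map g).hom) : Epi g := by
  haveI := CurveCohLib.isNoetherian_of_proper (k := k) (X := X)
  haveI : JacobsonSpace X := LocallyOfFiniteType.jacobsonSpace (X ↘ Spec (CommRingCat.of k))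
  have hQ : Coh.IsCoh (cokernel g) := QCoh.isCoh_cokernel hN.1 QCoh.isCoh_structureModule' g
  refine Preadditive.epi_of_isZero_cokernel _ (CurveCohLib.isZero_of_subsingleton_stalks fun x => ?_)
  by_contra hx
  obtain ⟨a, ha, hac⟩ := nonempty_inter_closedPoints (Z := CohB1.support (cokernel g)) ⟨x, hx⟩
    (QCoh.isClosed_support_of_isFT hQ.1 hQ.2).isLocallyClosed
  haveI : Epi ((DerSch.stalkFunctor X a).map g) := (ModuleCat.epi_iff_surjective _).2 (h a hac)
  exact ha (ModuleCat.subsingleton_of_isZero ((isZero_cokernel_of_epi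
    ((DerSch.stalkFunctor X a).map g)).of_iso (PreservesCokernel.iso (DerSch.stalkFunctor X a) g)))

/-- If every combination is epi, there is a section. -/
theorem exists_hom_of_all_epi : ∀ (n : ℕ) (N : X.Modules), Coh.IsCoh N →
    ∀ f : Fin (n + 1) → (N ⟶ Coh.structureModule X), JMono f → (∀ c, c ≠ 0 → Epi (comb k f c)) →
      ∃ h : Coh.structureModule X ⟶ N, h ≠ 0 := by
  intro n
  induction n with
  | zero =>
    intro N _ f hf hepi
    have h1 : comb k f (fun _ => 1) = f 0 := by
      simp [comb, scal_one]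
    haveI : Epi (f 0) := h1 ▸ hepi _ (fun h => one_ne_zero (congrFun h 0))
    haveI : Mono (f 0) := Preadditive.mono_of_cancel_zero _ fun {Z} g hg =>
      hf Z g (fun i => by obtain rfl : i = 0 := Fin.fin_one_eq_zero i; exact hg)
    haveI : IsIso (f 0) := isIso_of_mono_of_epi _
    refine ⟨inv (f 0), fun h => ?_⟩
    have hz : IsZero (Coh.structureModule X) := (IsZero.iff_id_eq_zero _).2 (by
      rw [← IsIso.inv_hom_id (f 0), h, zero_comp])
    have h2 := rk_eq (InvEnd.isFinLocFreeOfRank_one (CurveDeg.isInvertible_structureModule (X := X)))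
    rw [rk_eq_zero_of_isZero hz] at h2
    exact absurd h2 (by norm_num)
  | succ n ih =>
    intro N hN f hf hepi
    classical
    haveI := CurveCohLib.isNoetherian_of_proper (k := k) (X := X)
    haveI : Epi (f 0) := by
      have h1 : comb k f (Pi.single 0 1) = f 0 := by
        rw [comb, Finset.sum_eq_single 0 (fun i _ hi => by rw [Pi.single_eq_of_ne hi, scal_zero, comp_zero])
          (fun h => absurd (Finset.mem_univ _) h), Pi.single_eq_same, scal_one, Category.comp_id]
      exact h1 ▸ hepi _ (fun h => one_ne_zero (α := k) (by simpa using congrFun h 0))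
    set ι := kernel.ι (f 0)
    let f' : Fin (n + 1) → (kernel (f 0) ⟶ Coh.structureModule X) := fun i => ι ≫ f i.succ
    have hf' : JMono f' := fun Z h hh => (cancel_mono ι).1 (by
      rw [zero_comp]
      refine hf Z _ fun i => ?_
      refine Fin.cases ?_ (fun j => ?_) i
      · rw [Category.assoc, kernel.condition, comp_zero]
      · rw [Category.assoc]; exact hh j)
    have hK : Coh.IsCoh (kernel (f 0)) := QCoh.isCoh_kernel hN QCoh.isCoh_structureModule' (f 0)
    have hepi' : ∀ c, c ≠ 0 → Epi (comb k f' c) := fun c hc => epi_of_closed k hK _ fun a ha => by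
      let R := X.presheaf.stalk a
      obtain ⟨b⟩ := CurveTensor.exists_basis_stalk
        (InvEnd.isFinLocFreeOfRank_one (CurveDeg.isInvertible_structureModule (X := X))) a
      let ε : (Coh.structureModule X).presheaf.stalk a ≃ₗ[R] R := b.equivFun.trans (LinearEquiv.funUnique (Fin 1) R R)
      let S : ∀ {M : X.Modules}, (M ⟶ Coh.structureModule X) → (M.presheaf.stalk a →ₗ[R] R) := fun g =>
        ε.toLinearMap.comp ((DerSch.stalkFunctor X a).map g).hom
      let G : N ⟶ Coh.structureModule X := ∑ i, f i.succ ≫ scal k (c i)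
      have hG : comb k f' c = ι ≫ G := by
        simp only [comb, G, f', Preadditive.comp_sum, Category.assoc]
      have hsurj : ∀ {M : X.Modules} (g : M ⟶ Coh.structureModule X), Epi g → Function.Surjective (S g) := fun g hg => by
        haveI := hg
        exact ε.surjective.comp ((ModuleCat.epi_iff_surjective _).1 inferInstance)
      obtain ⟨s₀, hs₀⟩ := hsurj (f 0) inferInstance 1
      obtain ⟨t, ht⟩ := CurveSection.exists_stalkMap_sub_mem k ha (S G s₀)
      have hne : (Fin.cons (-t) c : Fin (n + 1 + 1) → k) ≠ 0 := fun h =>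
        hc (funext fun i => by simpa using congrFun h i.succ)
      obtain ⟨s, hs⟩ := hsurj _ (hepi _ hne) 1
      have hsplit : S (comb k f (Fin.cons (-t) c)) s = Curv2.stalkMap k X a (-t) * S (f 0) s + S G s := by
        have e : comb k f (Fin.cons (-t) c) = f 0 ≫ scal k (-t) + G := by
          simp [comb, G, Fin.sum_univ_succ]
        rw [e]
        show ε (((DerSch.stalkFunctor X a).map (f 0 ≫ scal k (-t) + G)).hom s) = _
        rw [Functor.map_add, ModuleCat.hom_add, LinearMap.add_apply, map_add, Functor.map_comp]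
        show ε (((DerSch.stalkFunctor X a).map (scal k (-t))).hom (((DerSch.stalkFunctor X a).map (f 0)).hom s)) + _ = _
        rw [stalk_scal, map_smul]
        rfl
      rw [hsplit, map_neg] at hs
      set s' := s - S (f 0) s • s₀
      have hs'0 : S (f 0) s' = 0 := by
        simp only [s', map_sub, map_smul, hs₀, smul_eq_mul, mul_one, sub_self]
      obtain ⟨w, hw⟩ := (ShortComplex.moduleCat_exact_iff _).1
        ((shortExact_kernel_of_epi (f 0)).map_of_exact (DerSch.stalkFunctor X a)).exact s'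
        (ε.injective (by rw [map_zero]; exact hs'0))
      have hu : IsUnit (S G s') := by
        have e : S G s' = 1 - S (f 0) s * (S G s₀ - Curv2.stalkMap k X a t) := by
          simp only [s', map_sub, map_smul, smul_eq_mul]
          linear_combination hs
        rw [e]
        exact IsLocalRing.isUnit_one_sub_self_of_mem_nonunits _
          ((IsLocalRing.mem_maximalIdeal _).1 ((IsLocalRing.maximalIdeal R).mul_mem_left _ ht))
      obtain ⟨u, hu⟩ := hu
      intro z
      refine ⟨(ε z * (↑u⁻¹ : R)) • w, ε.injective ?_⟩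
      show S (comb k f' c) ((ε z * (↑u⁻¹ : R)) • w) = ε z
      rw [map_smul, smul_eq_mul, hG]
      show _ * ε (((DerSch.stalkFunctor X a).map (ι ≫ G)).hom w) = _
      rw [Functor.map_comp]
      show _ * S G (((DerSch.stalkFunctor X a).map ι).hom w) = _
      rw [show ((DerSch.stalkFunctor X a).map ι).hom w = s' from hw, ← hu, mul_assoc, Units.inv_mul, mul_one]
    obtain ⟨h, hh⟩ := ih (kernel (f 0)) hK f' hf' hepi'
    exact ⟨h ≫ ι, fun h0 => hh ((cancel_mono ι).1 (by rw [h0, zero_comp]))⟩

/-- A bundle inside a free module, without sections, has a negative line quotient. -/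
theorem exists_neg_quot (hdim : topologicalKrullDim X ≤ 1) {N : X.Modules} {r : ℕ}
    (hN : FlatMod.IsFinLocFreeOfRank (r + 1) N) (h0 : ∀ h : Coh.structureModule X ⟶ N, h = 0)
    {n : ℕ} (f : Fin n → (N ⟶ Coh.structureModule X)) (hf : JMono f) :
    ∃ (N' : X.Modules) (ι : N' ⟶ N), Mono ι ∧ FlatMod.IsFinLocFreeOfRank r N' ∧
      PicF.IsInvertible (cokernel ι) ∧ Curv2.deg k X (cokernel ι) 1 < 0 := by
  classical
  haveI := isLocallyNoetherian' k (X := X)
  have hNf := isFinLocFree_of_rank hN
  have hNc := coh_of_free k hNf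
  have hex : ∃ n, ∃ f : Fin n → (N ⟶ Coh.structureModule X), JMono f := ⟨n, f, hf⟩
  obtain ⟨g, hg⟩ := Nat.find_spec hex
  obtain ⟨m, hm⟩ : ∃ m, Nat.find hex = m + 1 := Nat.exists_eq_succ_of_ne_zero fun h => by
    have hz : IsZero N := (IsZero.iff_id_eq_zero N).2 (hg N (𝟙 N) fun i => absurd i.2 (by omega))
    have := rk_eq hN
    rw [rk_eq_zero_of_isZero hz] at this
    omega
  obtain ⟨g', hg'⟩ : ∃ g' : Fin (m + 1) → (N ⟶ Coh.structureModule X), JMono g' := hm ▸ ⟨g, hg⟩
  have hne : ∀ c, c ≠ 0 → comb k g' c ≠ 0 := fun c hc h => by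
    obtain ⟨j, hj⟩ := Function.ne_iff.1 hc
    refine Nat.find_min hex (show m < Nat.find hex by omega) ⟨fun i => g' (j.succAbove i), fun Z h' hh => ?_⟩
    refine hg' Z h' fun i => ?_
    rcases Fin.eq_self_or_eq_succAbove j i with rfl | ⟨l, rfl⟩
    · have h1 : h' ≫ comb k g' c = 0 := by rw [h, comp_zero]
      rw [comb, Preadditive.comp_sum, Finset.sum_eq_single i (fun l _ hl => by
        obtain ⟨l, rfl⟩ := (Fin.eq_self_or_eq_succAbove i l).resolve_left hl
        rw [← Category.assoc, hh l, zero_comp]) (fun h => absurd (Finset.mem_univ _) h)] at h1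
      have h2 := congrArg (· ≫ scal k (c i)⁻¹) h1
      simpa [scal_comp_inv k hj] using h2
    · exact hh l
  obtain ⟨c, hc, hnepi⟩ : ∃ c, c ≠ 0 ∧ ¬ Epi (comb k g' c) := by
    by_contra! hall
    obtain ⟨h, hh⟩ := exists_hom_of_all_epi k m N hNc g' hg' hall
    exact hh (h0 h)
  have hO1 := InvEnd.isFinLocFreeOfRank_one (CurveDeg.isInvertible_structureModule (X := X))
  have hOf := isFinLocFree_of_rank hO1
  obtain ⟨I, π, j, hj, hπ, hfac, -, hI, -, -, hpos, hle⟩ := exists_decomp k hdim hNf hOf (comb k g' c)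
  rw [rk_eq hO1] at hle
  have hI1 : rk I = 1 := le_antisymm hle (hpos (hne c hc))
  have hIr : FlatMod.IsFinLocFreeOfRank 1 I := hI1 ▸ isFinLocFreeOfRank_rk hI
  haveI := hj
  haveI := hπ
  have hK : Coh.IsCoh (kernel π) := QCoh.isCoh_kernel hNc (coh_of_free k hI) π
  have hKf := isFinLocFree_of_mono k hdim hK (kernel.ι π) hNf
  have hadd := rk_add_coh k _ _ _ (shortExact_kernel_of_epi π) hNc
  rw [rk_eq hN, hI1] at hadd
  let e : I ≅ cokernel (kernel.ι π) :=
    ((shortExact_kernel_of_epi π).gIsCokernel).coconePointUniqueUpToIso (colimit.isColimit _)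
  have hC : FlatMod.IsFinLocFreeOfRank 1 (cokernel (kernel.ι π)) := by
    have h1 : FlatMod.IsFinLocFree (cokernel (kernel.ι π)) := fun x => by
      obtain ⟨U, p, hx, ⟨φ⟩⟩ := hI x
      exact ⟨U, p, hx, ⟨(Scheme.Modules.restrictFunctor U.ι).mapIso e.symm ≪≫ φ⟩⟩
    exact hI1 ▸ rk_congr e ▸ isFinLocFreeOfRank_rk h1
  refine ⟨kernel π, kernel.ι π, inferInstance, (show rk (kernel π) = r by omega) ▸ isFinLocFreeOfRank_rk hKf,
    fun x => let ⟨U, hx, ⟨φ⟩⟩ := hC x; ⟨U, hx, ⟨φ ≪≫ coproductUniqueIso _⟩⟩, ?_⟩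
  rw [deg_eq_dg k hC, ← dg_congr k e]
  have h := dg_lt_of_rk_eq k hdim j (coh_of_free k hI) (coh_of_free k hOf) (hI1.trans (rk_eq hO1).symm)
    (fun hiso => hnepi (hfac ▸ inferInstance))
  have hO0 : dg k (Coh.structureModule X) = 0 := by
    unfold dg
    rw [rk_eq hO1]
    simp
  omega

/-- The filtration. -/
theorem exists_filtration (hdim : topologicalKrullDim X ≤ 1) : ∀ (r : ℕ) (N : X.Modules),
    FlatMod.IsFinLocFreeOfRank r N → (∀ h : Coh.structureModule X ⟶ N, h = 0) →
    ∀ (n : ℕ) (f : Fin n → (N ⟶ Coh.structureModule X)), JMono f →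
    ∃ (M : Fin (r + 1) → X.Modules) (f : (j : Fin r) → (M j.succ ⟶ M j.castSucc)),
      Nonempty (M 0 ≅ N) ∧ IsZero (M (Fin.last r)) ∧
        ∀ j : Fin r, Mono (f j) ∧ PicF.IsInvertible (cokernel (f j)) ∧ Curv2.deg k X (cokernel (f j)) 1 < 0 := by
  intro r
  induction r with
  | zero =>
    intro N hN _ n f _
    haveI := isLocallyNoetherian' k (X := X)
    exact ⟨fun _ => N, fun j => j.elim0, ⟨Iso.refl N⟩, isZero_of_rk_zero (isFinLocFree_of_rank hN) (rk_eq hN),
      fun j => j.elim0⟩
  | succ r ih =>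
    intro N hN h0 n f hf
    obtain ⟨N', ι, hι, hN', hinv, hdeg⟩ := exists_neg_quot k hdim hN h0 f hf
    haveI := hι
    obtain ⟨M, g, ⟨e⟩, hlast, hg⟩ := ih N' hN' (fun h => (cancel_mono ι).1 (by rw [h0 (h ≫ ι), zero_comp])) n
      (fun i => ι ≫ f i) (fun Z h hh => (cancel_mono ι).1 (by
        rw [zero_comp]; exact hf Z _ fun i => by rw [Category.assoc]; exact hh i))
    let M' : Fin (r + 1 + 1) → X.Modules := Fin.cons N M
    let g' : (j : Fin (r + 1)) → (M' j.succ ⟶ M' j.castSucc) :=
      Fin.cases (e.hom ≫ ι) (fun j => g j)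
    refine ⟨M', g', ⟨Iso.refl N⟩, hlast, fun j => ?_⟩
    refine Fin.cases ?_ (fun j => hg j) j
    let c : cokernel (e.hom ≫ ι) ≅ cokernel ι := cokernelEpiComp e.hom ι
    refine ⟨inferInstanceAs (Mono (e.hom ≫ ι)), (show PicF.IsInvertible (cokernel (e.hom ≫ ι)) from fun x =>
      let ⟨U, hx, ⟨φ⟩⟩ := hinv x
      ⟨U, hx, ⟨(Scheme.Modules.restrictFunctor U.ι).mapIso c ≪≫ φ⟩⟩), ?_⟩
    show Curv2.deg k X (cokernel (e.hom ≫ ι)) 1 < 0
    unfold Curv2.deg
    rwa [Euler.euler_congr k c]

end Groth.Agent.CurvFam16.NegFilt
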